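import Mathlib.LinearAlgebra.TensorProduct.RightExactness
import Mathlib.RingTheory.Flat.Basic
import Mathlib.LinearAlgebra.Quotient.Basic
import Groth.Agent.Ega3A.KerTensor

/-!
# Local lemmas for the algebraic Künneth formula
-/

set_option autoImplicit false

open TensorProduct

namespace Groth.Agent.Htor.H241.KAlg
universe u

variable {A : Type u} [CommRing A]
  {C C' D D' Z Z' H H' E : Type u} [AddCommGroup C] [Module A C] [AddCommGroup C'] [Module A C']
  [AddCommGroup D] [Module A D] [AddCommGroup D'] [Module A D'] [AddCommGroup Z] [Module A Z]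
  [AddCommGroup Z'] [Module A Z'] [AddCommGroup H] [Module A H] [AddCommGroup H'] [Module A H']
  [AddCommGroup E] [Module A E]

/-- a linear map which is universally injective -/
def PureMap (i : Z →ₗ[A] C) : Prop :=
  ∀ (M : Type u) [AddCommGroup M] [Module A M], Function.Injective (i.rTensor M)

theorem pureMap_of_flat_quotient (B : Submodule A C) [Module.Flat A (C ⧸ B)] : PureMap B.subtype :=
  fun M _ _ => Ega3A.KerTensor.rTensor_subtype_injective B M

theorem PureMap.comp {i : Z →ₗ[A] C} {j : C →ₗ[A] D} (hj : PureMap j) (hi : PureMap i) :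
    PureMap (j ∘ₗ i) := by
  intro M _ _
  rw [LinearMap.rTensor_comp, LinearMap.coe_comp]
  exact (hj M).comp (hi M)

theorem PureMap.of_equiv (e : Z ≃ₗ[A] C) : PureMap e.toLinearMap :=
  fun M _ _ => (LinearEquiv.rTensor M e).injective

/-- an injective map with flat cokernel is universally injective -/
theorem pureMap_of_exact (i : Z →ₗ[A] C) (hi : Function.Injective i) (g : C →ₗ[A] D)
    (hg : Function.Surjective g) (hex : Function.Exact i g) [Module.Flat A D] : PureMap i := by
  have hr : LinearMap.range i = LinearMap.ker g := (LinearMap.exact_iff.1 hex).symm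
  have h1 : Module.Flat A (C ⧸ LinearMap.range i) := by
    rw [hr]
    exact Module.Flat.of_linearEquiv (g.quotKerEquivOfSurjective hg)
  have h2 : i = (LinearMap.range i).subtype ∘ₗ (LinearEquiv.ofInjective i hi).toLinearMap := rfl
  rw [h2]
  exact (pureMap_of_flat_quotient _).comp (PureMap.of_equiv _)

/-- the kernel of a surjection of flat modules is flat -/
theorem flat_of_exact (i : Z →ₗ[A] C) (hi : Function.Injective i) (g : C →ₗ[A] D)
    (hg : Function.Surjective g) (hex : Function.Exact i g) [Module.Flat A D] [Module.Flat A C] :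
    Module.Flat A Z := by
  have hr : LinearMap.range i = LinearMap.ker g := (LinearMap.exact_iff.1 hex).symm
  have h1 : Module.Flat A (C ⧸ LinearMap.range i) := by
    rw [hr]
    exact Module.Flat.of_linearEquiv (g.quotKerEquivOfSurjective hg)
  have h2 : Module.Flat A (LinearMap.range i) := Ega3A.KerTensor.flat_submodule _
  exact Module.Flat.of_linearEquiv (LinearEquiv.ofInjective i hi)

theorem map_eq {M N M' N' : Type u} [AddCommGroup M] [Module A M] [AddCommGroup N] [Module A N]
    [AddCommGroup M'] [Module A M'] [AddCommGroup N'] [Module A N'] (f : M →ₗ[A] M') (g : N →ₗ[A] N')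
    (x : M ⊗[A] N) :
    f.rTensor N' (g.lTensor M x) = TensorProduct.map f g x := by
  rw [← LinearMap.comp_apply, LinearMap.rTensor_comp_lTensor]

theorem map_eq' {M N M' N' : Type u} [AddCommGroup M] [Module A M] [AddCommGroup N] [Module A N]
    [AddCommGroup M'] [Module A M'] [AddCommGroup N'] [Module A N'] (f : M →ₗ[A] M') (g : N →ₗ[A] N')
    (x : M ⊗[A] N) :
    g.lTensor M' (f.rTensor N x) = TensorProduct.map f g x := by
  rw [← LinearMap.comp_apply, LinearMap.lTensor_comp_rTensor]

theorem rTensor_range (d : C →ₗ[A] C') (x : C ⊗[A] E) :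
    (LinearMap.range d).subtype.rTensor E (d.rangeRestrict.rTensor E x) = d.rTensor E x := by
  rw [← LinearMap.comp_apply, ← LinearMap.rTensor_comp]
  rfl

/-- if `(d ⊗ e) w = 0` then `(d ⊗ 1) w` comes from `C ⊗ ker e` -/
theorem lift_right (d : C →ₗ[A] C') (e : D →ₗ[A] D') (i' : Z' →ₗ[A] D)
    (hB : PureMap (LinearMap.range d).subtype) (hBf : Module.Flat A (LinearMap.range d))
    (he : Function.Exact i' e) (w : C ⊗[A] D) (h : TensorProduct.map d e w = 0) :
    ∃ u : C ⊗[A] Z', TensorProduct.map d i' u = d.rTensor D w := by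
  have e1 : e.lTensor (LinearMap.range d) (d.rangeRestrict.rTensor D w) = 0 := by
    apply hB
    rw [map_zero, map_eq, ← h, ← LinearMap.comp_apply, LinearMap.map_comp_rTensor]
    rfl
  obtain ⟨z, hz⟩ := (Module.Flat.lTensor_exact (LinearMap.range d) he _).1 e1
  obtain ⟨u, rfl⟩ := LinearMap.rTensor_surjective Z' d.surjective_rangeRestrict z
  refine ⟨u, ?_⟩
  rw [map_eq'] at hz
  rw [← rTensor_range, ← hz, ← LinearMap.comp_apply, LinearMap.rTensor_comp_map]
  rfl

/-- `(B ⊗ D') ∩ (C' ⊗ B') = B ⊗ B'` for `B` pure. -/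
theorem inter (d : C →ₗ[A] C') (e : D →ₗ[A] D')
    (hB : PureMap (LinearMap.range d).subtype) (a : C ⊗[A] D')
    (h : ∃ b : C' ⊗[A] D, e.lTensor C' b = d.rTensor D' a) :
    ∃ w : C ⊗[A] D, TensorProduct.map d e w = d.rTensor D' a := by
  obtain ⟨b, hb⟩ := h
  have hex : Function.Exact e (LinearMap.range e).mkQ := LinearMap.exact_map_mkQ_range e
  have e1 : (LinearMap.range e).mkQ.lTensor (LinearMap.range d) (d.rangeRestrict.rTensor D' a) = 0 := by
    apply hB
    rw [map_zero, map_eq, ← map_eq', rTensor_range, ← hb, ← LinearMap.comp_apply,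
      ← LinearMap.lTensor_comp, hex.linearMap_comp_eq_zero, LinearMap.lTensor_zero, LinearMap.zero_apply]
  obtain ⟨z, hz⟩ := (lTensor_exact (LinearMap.range d) hex (Submodule.mkQ_surjective _) _).1 e1
  obtain ⟨w, rfl⟩ := LinearMap.rTensor_surjective D d.surjective_rangeRestrict z
  refine ⟨w, ?_⟩
  rw [map_eq'] at hz
  rw [← rTensor_range, ← hz, ← LinearMap.comp_apply, LinearMap.rTensor_comp_map]
  rfl

/-- elements killed by `d ⊗ 1` and `1 ⊗ e` come from `ker d ⊗ ker e` -/
theorem ker_ker (d : C →ₗ[A] C') (e : D →ₗ[A] D') (i : Z →ₗ[A] C) (i' : Z' →ₗ[A] D)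
    (hB : PureMap (LinearMap.range d).subtype) (hd : Function.Exact i d) (hi : PureMap i)
    (hZ : Module.Flat A Z) (he : Function.Exact i' e) (c : C ⊗[A] D)
    (h1 : d.rTensor D c = 0) (h2 : e.lTensor C c = 0) :
    ∃ ζ : Z ⊗[A] Z', TensorProduct.map i i' ζ = c := by
  have hd' : Function.Exact i d.rangeRestrict := by
    intro x
    rw [← hd x]
    constructor
    · intro h
      exact congrArg Subtype.val h
    · intro h
      exact Subtype.ext h
  have e1 : d.rangeRestrict.rTensor D c = 0 := hB D (by rw [map_zero, rTensor_range, h1])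
  obtain ⟨b, rfl⟩ := (rTensor_exact D hd' d.surjective_rangeRestrict c).1 e1
  have e2 : e.lTensor Z b = 0 := hi _ (by rw [map_zero, map_eq, ← map_eq', h2])
  obtain ⟨ζ, rfl⟩ := (Module.Flat.lTensor_exact Z he b).1 e2
  exact ⟨ζ, (map_eq _ _ _).symm⟩

/-- the local injectivity statement -/
theorem inj_local (i : Z →ₗ[A] C) (i' : Z' →ₗ[A] D) (hi : PureMap i) (hi' : Function.Injective i')
    (hC : Module.Flat A C) (b : C' →ₗ[A] Z) (b' : D' →ₗ[A] Z') (π : Z →ₗ[A] H) (π' : Z' →ₗ[A] H')
    (hπ : π ∘ₗ b = 0) (hπ' : π' ∘ₗ b' = 0) (ζ : Z ⊗[A] Z') (u : C' ⊗[A] Z') (v : C ⊗[A] D')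
    (h : TensorProduct.map i i' ζ = TensorProduct.map (i ∘ₗ b) i' u + (i' ∘ₗ b').lTensor C v) :
    TensorProduct.map π π' ζ = 0 := by
  obtain ⟨ζ', hζ'⟩ : ∃ ζ', ζ' = ζ - b.rTensor Z' u := ⟨_, rfl⟩
  have e1 : TensorProduct.map i i' ζ' = (i' ∘ₗ b').lTensor C v := by
    rw [hζ', map_sub, h, ← LinearMap.comp_apply, LinearMap.map_comp_rTensor, add_sub_cancel_left]
  have e2 : i.rTensor Z' ζ' = b'.lTensor C v := by
    apply Module.Flat.lTensor_preserves_injective_linearMap (M := C) i' hi'
    rw [map_eq', e1, ← LinearMap.comp_apply, ← LinearMap.lTensor_comp]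
  have e3 : π'.lTensor Z ζ' = 0 := by
    apply hi
    rw [map_zero, map_eq, ← map_eq', e2, ← LinearMap.comp_apply, ← LinearMap.lTensor_comp, hπ',
      LinearMap.lTensor_zero, LinearMap.zero_apply]
  have e4 : TensorProduct.map π π' ζ' = 0 := by
    rw [← map_eq, e3, map_zero]
  have e5 : TensorProduct.map π π' (b.rTensor Z' u) = 0 := by
    rw [← LinearMap.comp_apply, LinearMap.map_comp_rTensor, hπ, TensorProduct.map_zero_left,
      LinearMap.zero_apply]
  have e6 : ζ = ζ' + b.rTensor Z' u := by rw [hζ', sub_add_cancel]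
  rw [e6, map_add, e4, e5, add_zero]

end Groth.Agent.Htor.H241.KAlg
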