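import Groth.Agent.Htor.H241.KMap

/-!
# Bijectivity of the Künneth map, reduction to families of components
-/

set_option autoImplicit false
universe u

open CategoryTheory CategoryTheory.Limits MonoidalCategory HomologicalComplex TensorProduct

namespace Groth.Agent.Htor.H241.KBij

open Groth.Agent.Htor.H241.TElt Groth.Agent.Htor.H241.KMap

variable {A : Type u} [CommRing A] (K L : DRing.Cx A)

/-- every family of total cocycles is cohomologous to a family of products of cycles -/
def SurjProp : Prop :=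
  ∀ x : (∀ p q : ℤ, K.X p ⊗[A] L.X q), dtot x = 0 → ∃ w : (∀ p q : ℤ, K.X p ⊗[A] L.X q),
    (∀ p q, x p (q + 1) = 0 → x (p + 1) q = 0 → w p q = 0) ∧
      ∀ p q, ∃ ζ : K.cycles p ⊗[A] L.cycles q,
        TensorProduct.map (K.iCycles p).hom (L.iCycles q).hom ζ = x p q - dtot w p q

/-- a family of products of cycles which is a total coboundary is zero in `⊕ H ⊗ H` -/
def InjProp : Prop :=
  ∀ (ζ : ∀ p q : ℤ, K.cycles p ⊗[A] L.cycles q) (w : ∀ p q : ℤ, K.X p ⊗[A] L.X q),
    (∀ p q, TensorProduct.map (K.iCycles p).hom (L.iCycles q).hom (ζ p q) = dtot w p q) →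
      ∀ p q, TensorProduct.map (K.homologyπ p).hom (L.homologyπ q).hom (ζ p q) = 0

variable {K L}

theorem surjective_of (hS : SurjProp K L) (n : ℤ) : Function.Surjective (kMap K L n) := by
  classical
  obtain ⟨m, rfl⟩ : ∃ m, n = m + 1 := ⟨n - 1, by omega⟩
  intro y
  obtain ⟨w0, rfl⟩ := homologyπ_surjective _ _ y
  obtain ⟨t, ht⟩ : ∃ t, t = (HTor.tensorCx K L).iCycles (m + 1) w0 := ⟨_, rfl⟩
  have hdt : (HTor.tensorCx K L).d (m + 1) (m + 1 + 1) t = 0 := by rw [ht, d_iCycles]
  obtain ⟨w, hw, hζ⟩ := hS (fam t) (by rw [← fam_d, hdt, map_zero])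
  choose ζ hζ using hζ
  obtain ⟨S, hSt⟩ := exists_support t
  let S1 : Finset ℤ := S ∪ S.image (· - 1)
  have hwS : ∀ p q, p ∉ S1 → w p q = 0 := by
    intro p q hp
    have h1 : p ∉ S := fun h => hp (Finset.mem_union_left _ h)
    have h2 : p + 1 ∉ S := fun h =>
      hp (Finset.mem_union_right _ (Finset.mem_image.2 ⟨p + 1, h, by omega⟩))
    exact hw p q (hSt _ _ h1) (hSt _ _ h2)
  have hwn : ∀ p q, p + q ≠ m → w p q = 0 := fun p q hpq =>
    hw p q (fam_eq_zero _ (by omega)) (fam_eq_zero _ (by omega))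
  obtain ⟨W, hW⟩ : ∃ W : (HTor.tensorCx K L).X m, fam W = w := by
    refine ⟨mk m S1 w, ?_⟩
    funext p q
    by_cases hpq : p + q = m
    · exact fam_mk w (fun p q _ hp => hwS p q hp) hpq
    · rw [fam_eq_zero _ hpq, hwn p q hpq]
  -- the corrected element
  obtain ⟨t', ht'⟩ : ∃ t', t' = t - (HTor.tensorCx K L).d m (m + 1) W := ⟨_, rfl⟩
  have hft' : ∀ p q, TensorProduct.map (K.iCycles p).hom (L.iCycles q).hom (ζ p q) = fam t' p q := by
    intro p q
    rw [hζ, ht', map_sub, fam_d, hW]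
    rfl
  obtain ⟨S', hS'⟩ := exists_eq_mk t'
  have e1 : t' = (HTor.tensorCx K L).iCycles (m + 1)
      (∑ p ∈ S', cyc K L p (m + 1 - p) (m + 1) (by omega) (ζ p (m + 1 - p))) := by
    rw [map_sum]
    conv_lhs => rw [hS' S' (Finset.Subset.refl _)]
    refine Finset.sum_congr rfl (fun p _ => ?_)
    rw [iCycles_cyc, hft']
  refine ⟨∑ p ∈ S', DirectSum.lof A (HTor.Antidiag (m + 1))
    (fun ij => TensorProduct A (K.homology ij.1.1) (L.homology ij.1.2))
    ⟨(p, m + 1 - p), by change p + (m + 1 - p) = m + 1; omega⟩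
    (TensorProduct.map (K.homologyπ p).hom (L.homologyπ (m + 1 - p)).hom (ζ p (m + 1 - p))), ?_⟩
  rw [map_sum]
  have e2 : ∀ p ∈ S', kMap K L (m + 1) (DirectSum.lof A (HTor.Antidiag (m + 1))
      (fun ij => TensorProduct A (K.homology ij.1.1) (L.homology ij.1.2))
      ⟨(p, m + 1 - p), by change p + (m + 1 - p) = m + 1; omega⟩
      (TensorProduct.map (K.homologyπ p).hom (L.homologyπ (m + 1 - p)).hom (ζ p (m + 1 - p)))) =
      (HTor.tensorCx K L).homologyπ (m + 1)
        (cyc K L p (m + 1 - p) (m + 1) (by omega) (ζ p (m + 1 - p))) := by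
    intro p _
    rw [kMap_lof]
    exact kComp_map _ _ _ _ _
  refine (Finset.sum_congr rfl e2).trans ?_
  rw [← map_sum, ← sub_eq_zero, ← map_sub]
  refine (homologyπ_eq_zero_iff _ rfl _).2 ⟨-W, ?_⟩
  rw [map_sub, ← e1, ← ht, ht', map_neg]
  abel

theorem injective_of (hI : InjProp K L) (n : ℤ) : Function.Injective (kMap K L n) := by
  classical
  obtain ⟨m, rfl⟩ : ∃ m, n = m + 1 := ⟨n - 1, by omega⟩
  rw [injective_iff_map_eq_zero]
  intro y hy
  have hex : ∀ ij : HTor.Antidiag (m + 1), ∃ ζ : K.cycles ij.1.1 ⊗[A] L.cycles ij.1.2,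
      TensorProduct.map (K.homologyπ ij.1.1).hom (L.homologyπ ij.1.2).hom ζ = y ij :=
    fun ij => map_homologyπ_surjective _ _ _
  choose ζ hζ using hex
  have hy1 : y = ∑ ij ∈ DFinsupp.support y, DirectSum.lof A (HTor.Antidiag (m + 1))
      (fun ij => TensorProduct A (K.homology ij.1.1) (L.homology ij.1.2)) ij
      (TensorProduct.map (K.homologyπ ij.1.1).hom (L.homologyπ ij.1.2).hom (ζ ij)) := by
    conv_lhs => rw [← DirectSum.sum_support_of y]
    refine Finset.sum_congr rfl (fun ij _ => ?_)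
    rw [hζ]
    rfl
  have hz : (HTor.tensorCx K L).homologyπ (m + 1) (∑ ij ∈ DFinsupp.support y,
      cyc K L ij.1.1 ij.1.2 (m + 1) ij.2 (ζ ij)) = 0 := by
    rw [map_sum, ← hy]
    conv_rhs => rw [hy1]
    rw [map_sum]
    refine Finset.sum_congr rfl (fun ij _ => ?_)
    rw [kMap_lof, kComp_map]
  obtain ⟨W, hW⟩ := (homologyπ_eq_zero_iff _ rfl _).1 hz
  -- the total family
  let Z : ∀ p q : ℤ, K.cycles p ⊗[A] L.cycles q := fun p q =>
    if h : p + q = m + 1 then (if (⟨(p, q), h⟩ : HTor.Antidiag (m + 1)) ∈ DFinsupp.support y then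
      ζ ⟨(p, q), h⟩ else 0) else 0
  have hfam : ∀ p q, TensorProduct.map (K.iCycles p).hom (L.iCycles q).hom (Z p q) =
      dtot (fam W) p q := by
    intro p q
    rw [← fam_d, hW, map_sum, map_sum, Finset.sum_apply, Finset.sum_apply]
    by_cases h : p + q = m + 1
    · by_cases h2 : (⟨(p, q), h⟩ : HTor.Antidiag (m + 1)) ∈ DFinsupp.support y
      · rw [Finset.sum_eq_single (⟨(p, q), h⟩ : HTor.Antidiag (m + 1))]
        · rw [iCycles_cyc, fam_tI, sgl_same]
          simp only [Z, dif_pos h, if_pos h2]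
        · rintro ⟨⟨i, j⟩, hij⟩ _ hne
          rw [iCycles_cyc, fam_tI]
          refine sgl_ne_left _ ?_ _
          rintro rfl
          apply hne
          have : q = j := by
            have h1 : p + j = m + 1 := hij
            omega
          subst this
          rfl
        · intro h3
          exact absurd h2 h3
      · rw [Finset.sum_eq_zero]
        · simp only [Z, dif_pos h, if_neg h2, map_zero]
        · rintro ⟨⟨i, j⟩, hij⟩ hmem
          rw [iCycles_cyc, fam_tI]
          refine sgl_ne_left _ ?_ _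
          rintro rfl
          apply h2
          have : q = j := by
            have h1 : p + j = m + 1 := hij
            omega
          subst this
          exact hmem
    · rw [Finset.sum_eq_zero]
      · simp only [Z, dif_neg h, map_zero]
      · intro ij _
        exact fam_eq_zero _ h
  have hfin := hI Z (fam W) hfam
  refine DFinsupp.ext (fun ij => ?_)
  obtain ⟨⟨p, q⟩, h⟩ := ij
  by_cases h2 : (⟨(p, q), h⟩ : HTor.Antidiag (m + 1)) ∈ DFinsupp.support y
  · have h3 := hfin p q
    simp only [Z] at h3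
    rw [dif_pos (show p + q = m + 1 from h), if_pos h2] at h3
    exact (hζ ⟨(p, q), h⟩).symm.trans h3
  · exact DFinsupp.notMem_support_iff.1 h2

theorem bijective_of (hS : SurjProp K L) (hI : InjProp K L) (n : ℤ) :
    Function.Bijective (kMap K L n) :=
  ⟨injective_of hI n, surjective_of hS n⟩

end Groth.Agent.Htor.H241.KBij
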