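import Groth.Agent.Htor.H241.KGood

/-!
# The Künneth map when the second complex is good (flat terms, boundaries and cohomology)
-/

set_option autoImplicit false
universe u

open CategoryTheory CategoryTheory.Limits MonoidalCategory HomologicalComplex TensorProduct

namespace Groth.Agent.Htor.H241.KFlip

open Groth.Agent.Htor.H241.TElt Groth.Agent.Htor.H241.KMap Groth.Agent.Htor.H241.KBij
  Groth.Agent.Htor.H241.KAlg Groth.Agent.Htor.H241.KGood

variable {A : Type u} [CommRing A] {K L : DRing.Cx A}

/-- the flip of a family, with the sign `(-1)^{pq}` -/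
noncomputable def flipF (x : ∀ p q : ℤ, K.X p ⊗[A] L.X q) : ∀ q p : ℤ, L.X q ⊗[A] K.X p :=
  fun q p => (p * q).negOnePow • TensorProduct.comm A (K.X p) (L.X q) (x p q)

lemma comm_units_smul {M N : Type u} [AddCommGroup M] [Module A M] [AddCommGroup N] [Module A N]
    (u : ℤˣ) (x : M ⊗[A] N) : TensorProduct.comm A M N (u • x) = u • TensorProduct.comm A M N x :=
  map_units_smul (TensorProduct.comm A M N).toLinearMap u x

lemma comm_rTensor {M N E : Type u} [AddCommGroup M] [Module A M] [AddCommGroup N] [Module A N]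
    [AddCommGroup E] [Module A E] (f : M →ₗ[A] N) (x : M ⊗[A] E) :
    TensorProduct.comm A N E (f.rTensor E x) = f.lTensor E (TensorProduct.comm A M E x) := by
  induction x using TensorProduct.induction_on with
  | zero => simp only [map_zero]
  | add x y hx hy => simp only [map_add, hx, hy]
  | tmul a b => simp

lemma comm_lTensor {M N E : Type u} [AddCommGroup M] [Module A M] [AddCommGroup N] [Module A N]
    [AddCommGroup E] [Module A E] (f : M →ₗ[A] N) (x : E ⊗[A] M) :
    TensorProduct.comm A E N (f.lTensor E x) = f.rTensor E (TensorProduct.comm A E M x) := by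
  induction x using TensorProduct.induction_on with
  | zero => simp only [map_zero]
  | add x y hx hy => simp only [map_add, hx, hy]
  | tmul a b => simp

lemma comm_map {M N M' N' : Type u} [AddCommGroup M] [Module A M] [AddCommGroup N] [Module A N]
    [AddCommGroup M'] [Module A M'] [AddCommGroup N'] [Module A N'] (f : M →ₗ[A] M') (g : N →ₗ[A] N')
    (x : M ⊗[A] N) : TensorProduct.comm A M' N' (TensorProduct.map f g x) =
      TensorProduct.map g f (TensorProduct.comm A M N x) := by
  induction x using TensorProduct.induction_on with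
  | zero => simp only [map_zero]
  | add x y hx hy => simp only [map_add, hx, hy]
  | tmul a b => simp

lemma dtot_flipF (x : ∀ p q : ℤ, K.X p ⊗[A] L.X q) : dtot (flipF x) = flipF (dtot x) := by
  funext q p
  obtain ⟨p', rfl⟩ : ∃ p', p = p' + 1 := ⟨p - 1, by omega⟩
  obtain ⟨q', rfl⟩ : ∃ q', q = q' + 1 := ⟨q - 1, by omega⟩
  have e1 : (q' + 1).negOnePow * (p' * (q' + 1)).negOnePow = ((p' + 1) * (q' + 1)).negOnePow := by
    rw [← Int.negOnePow_add]
    congr 1
    ring
  have e2 : ((p' + 1) * q').negOnePow = ((p' + 1) * (q' + 1)).negOnePow * (p' + 1).negOnePow := by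
    rw [← Int.negOnePow_add]
    have : (p' + 1) * (q' + 1) + (p' + 1) = (p' + 1) * q' + 2 * (p' + 1) := by ring
    rw [this, Int.negOnePow_add, Int.negOnePow_two_mul, mul_one]
  rw [dtot_eq (flipF x) rfl rfl]
  simp only [flipF]
  rw [dtot_eq x rfl rfl, map_add, smul_add, comm_rTensor, comm_units_smul, comm_lTensor,
    map_units_smul, map_units_smul, smul_smul, smul_smul, e1, e2]
  exact add_comm _ _

/-- the inverse flip is the flip -/
lemma flipF_flipF (x : ∀ p q : ℤ, K.X p ⊗[A] L.X q) : flipF (flipF x) = x := by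
  funext p q
  simp only [flipF]
  rw [comm_units_smul, smul_smul, mul_comm q p, Int.units_mul_self, one_smul,
    TensorProduct.comm_comm]

@[simp]
lemma flipF_zero : flipF (0 : ∀ p q : ℤ, K.X p ⊗[A] L.X q) = 0 := by
  funext p q
  simp [flipF]

lemma flipF_eq_zero_iff (x : ∀ p q : ℤ, K.X p ⊗[A] L.X q) (p q : ℤ) :
    flipF x q p = 0 ↔ x p q = 0 := by
  simp only [flipF]
  rw [smul_eq_zero_iff_eq, LinearEquiv.map_eq_zero_iff]

theorem surjProp_flip (h : SurjProp L K) : SurjProp K L := by
  intro x hx
  obtain ⟨w, hw0, hw⟩ := h (flipF x) (by rw [dtot_flipF, hx, flipF_zero])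
  refine ⟨flipF w, fun p q h1 h2 => ?_, fun p q => ?_⟩
  · rw [flipF_eq_zero_iff]
    exact hw0 q p ((flipF_eq_zero_iff x _ _).2 h2) ((flipF_eq_zero_iff x _ _).2 h1)
  · obtain ⟨ζ, hζ⟩ := hw q p
    refine ⟨(p * q).negOnePow • TensorProduct.comm A _ _ ζ, ?_⟩
    rw [map_units_smul, ← comm_map, hζ, dtot_flipF]
    simp only [flipF]
    rw [map_sub, smul_sub, comm_units_smul, smul_smul, mul_comm q p, Int.units_mul_self, one_smul,
      TensorProduct.comm_comm]

theorem injProp_flip (h : InjProp L K) : InjProp K L := by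
  intro ζ w hζ p q
  have h1 := h (fun q p => (p * q).negOnePow • TensorProduct.comm A _ _ (ζ p q)) (flipF w) (by
    intro q p
    rw [dtot_flipF, map_units_smul, ← comm_map, hζ]
    rfl) q p
  rw [map_units_smul, smul_eq_zero_iff_eq, ← comm_map] at h1
  exact (LinearEquiv.map_eq_zero_iff _).1 h1

/-- The Künneth map is bijective when the second complex has flat terms, boundaries and cohomology. -/
theorem bijective_kMap_of_good_right (h : Good L) (K : DRing.Cx A) (n : ℤ) :
    Function.Bijective (kMap K L n) :=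
  bijective_of (surjProp_flip (surjProp_of_good h K)) (injProp_flip (injProp_of_good h K)) n

/-- The Künneth map is bijective if the second complex has flat terms and zero differentials. -/
theorem kunneth_bijective_of_d_eq_zero (L Q : DRing.Cx A) (hd : ∀ i j, Q.d i j = 0)
    (hQ : ∀ i, Module.Flat A (Q.X i)) (n : ℤ)
    (Φ : HTor.KunnethSum L Q n →ₗ[A] (HTor.tensorCx L Q).homology n)
    (hΦ : HTor.IsKunnethMap L Q n Φ) : Function.Bijective Φ := by
  rw [eq_kMap hΦ]
  exact bijective_kMap_of_good_right (good_of_d_eq_zero hQ hd) L n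

/-- The Künneth map is bijective if the first complex has flat terms and zero differentials. -/
theorem kunneth_bijective_of_d_eq_zero_left (Q L : DRing.Cx A) (hd : ∀ i j, Q.d i j = 0)
    (hQ : ∀ i, Module.Flat A (Q.X i)) (n : ℤ)
    (Φ : HTor.KunnethSum Q L n →ₗ[A] (HTor.tensorCx Q L).homology n)
    (hΦ : HTor.IsKunnethMap Q L n Φ) : Function.Bijective Φ := by
  rw [eq_kMap hΦ]
  exact bijective_kMap_of_good (good_of_d_eq_zero hQ hd) L n

end Groth.Agent.Htor.H241.KFlip
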