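import Groth.Agent.Htor.H241.KBij
import Groth.Agent.Htor.H241.KAlg

/-!
# Bijectivity of the Künneth map for a complex of flat modules with flat boundaries and flat cohomology
-/

set_option autoImplicit false
universe u

open CategoryTheory CategoryTheory.Limits MonoidalCategory HomologicalComplex TensorProduct

namespace Groth.Agent.Htor.H241.KGood

open Groth.Agent.Htor.H241.TElt Groth.Agent.Htor.H241.KMap Groth.Agent.Htor.H241.KBij
  Groth.Agent.Htor.H241.KAlg

variable {A : Type u} [CommRing A] {K L : DRing.Cx A}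

/-- terms, boundaries and cohomology are flat -/
structure Good (K : DRing.Cx A) : Prop where
  flatX : ∀ p : ℤ, Module.Flat A (K.X p)
  flatB : ∀ p : ℤ, Module.Flat A (LinearMap.range (K.d p (p + 1)).hom)
  flatH : ∀ p : ℤ, Module.Flat A (K.homology p)

lemma exact_iCycles (K : DRing.Cx A) {p q : ℤ} (h : p + 1 = q) :
    Function.Exact (K.iCycles p).hom (K.d p q).hom := by
  subst h
  intro x
  constructor
  · intro hx
    obtain ⟨z, hz⟩ := exists_cycle_of_d K p x hx
    exact ⟨z, hz⟩
  · rintro ⟨z, rfl⟩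
    exact d_iCycles K p (p + 1) z

lemma exact_iCycles' (K : DRing.Cx A) (p : ℤ) :
    Function.Exact (K.iCycles p).hom (K.d p (p + 1)).hom.rangeRestrict := by
  intro x
  rw [← exact_iCycles K rfl x]
  constructor
  · intro h
    exact congrArg Subtype.val h
  · intro h
    exact Subtype.ext h

lemma Good.pureZ (h : Good K) (p : ℤ) : PureMap (K.iCycles p).hom := by
  have := h.flatB p
  exact pureMap_of_exact _ (iCycles_injective K p) _ (LinearMap.surjective_rangeRestrict _)
    (exact_iCycles' K p)

lemma Good.flatZ (h : Good K) (p : ℤ) : Module.Flat A (K.cycles p) := by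
  have := h.flatB p
  have := h.flatX p
  exact flat_of_exact _ (iCycles_injective K p) _ (LinearMap.surjective_rangeRestrict _)
    (exact_iCycles' K p)

lemma range_d_eq (K : DRing.Cx A) (p : ℤ) : LinearMap.range (K.d p (p + 1)).hom =
    (LinearMap.range (K.toCycles p (p + 1)).hom).map (K.iCycles (p + 1)).hom := by
  rw [← LinearMap.range_comp, ← ModuleCat.hom_comp, toCycles_i]

lemma exact_range_toCycles (K : DRing.Cx A) (p : ℤ) :
    Function.Exact (LinearMap.range (K.toCycles p (p + 1)).hom).subtype (K.homologyπ (p + 1)).hom := by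
  rw [LinearMap.exact_iff, Submodule.range_subtype]
  exact LinearMap.exact_iff.1 (exact_toCycles K rfl)

lemma Good.pureB (h : Good K) (p : ℤ) : PureMap (LinearMap.range (K.d p (p + 1)).hom).subtype := by
  have h1 : PureMap (LinearMap.range (K.toCycles p (p + 1)).hom).subtype := by
    have := h.flatH (p + 1)
    exact pureMap_of_exact _ (Submodule.subtype_injective _) _ (homologyπ_surjective K (p + 1))
      (exact_range_toCycles K p)
  have h2 := (h.pureZ (p + 1)).comp h1
  rw [range_d_eq]
  let e := Submodule.equivMapOfInjective (K.iCycles (p + 1)).hom (iCycles_injective K (p + 1))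
    (LinearMap.range (K.toCycles p (p + 1)).hom)
  have h3 : ((LinearMap.range (K.toCycles p (p + 1)).hom).map (K.iCycles (p + 1)).hom).subtype =
      ((K.iCycles (p + 1)).hom ∘ₗ (LinearMap.range (K.toCycles p (p + 1)).hom).subtype) ∘ₗ
        e.symm.toLinearMap := by
    ext x
    obtain ⟨y, rfl⟩ := e.surjective x
    simp [e]
  rw [h3]
  exact h2.comp (PureMap.of_equiv _)

/-- the boundaries are flat for a bounded above complex of flat modules with flat cohomology -/
lemma flatB_of_flatH (hK : DRing.TermwiseFlat K) {b : ℤ} (bK : DRing.VanishesAbove K b)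
    (hH : ∀ p : ℤ, Module.Flat A (K.homology p)) (p : ℤ) :
    Module.Flat A (LinearMap.range (K.d p (p + 1)).hom) := by
  have key : ∀ (k : ℕ) (p : ℤ), b ≤ p + k → Module.Flat A (LinearMap.range (K.d p (p + 1)).hom) := by
    intro k
    induction k with
    | zero =>
      intro p hp
      have h1 : IsZero (K.X (p + 1)) := bK (p + 1) (by omega)
      have h2 : Subsingleton (K.X (p + 1)) := ModuleCat.subsingleton_of_isZero h1
      infer_instance
    | succ k ih =>
      intro p hp
      have hB := ih (p + 1) (by push_cast at hp; omega)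
      have hX := hK (p + 1)
      have hZ : Module.Flat A (K.cycles (p + 1)) :=
        flat_of_exact _ (iCycles_injective K (p + 1)) _ (LinearMap.surjective_rangeRestrict _)
          (exact_iCycles' K (p + 1))
      have := hH (p + 1)
      have h1 : Module.Flat A (LinearMap.range (K.toCycles p (p + 1)).hom) :=
        flat_of_exact _ (Submodule.subtype_injective _) _ (homologyπ_surjective K (p + 1))
          (exact_range_toCycles K p)
      rw [range_d_eq]
      exact Module.Flat.of_linearEquiv (Submodule.equivMapOfInjective (K.iCycles (p + 1)).hom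
        (iCycles_injective K (p + 1)) (LinearMap.range (K.toCycles p (p + 1)).hom)).symm
  exact key (b - p).toNat p (by omega)

theorem good_of_flatH (hK : DRing.TermwiseFlat K) {b : ℤ} (bK : DRing.VanishesAbove K b)
    (hH : ∀ p : ℤ, Module.Flat A (K.homology p)) : Good K :=
  ⟨hK, flatB_of_flatH hK bK hH, hH⟩

/-- complexes of flat modules with zero differentials -/
theorem good_of_d_eq_zero (hK : DRing.TermwiseFlat K) (hd : ∀ i j, K.d i j = 0) : Good K := by
  refine ⟨hK, fun p => ?_, fun p => ?_⟩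
  · rw [hd, ModuleCat.hom_zero, LinearMap.range_zero]
    infer_instance
  · have h1 : Function.Bijective (K.iCycles p).hom := by
      refine ⟨iCycles_injective K p, fun x => ?_⟩
      exact exists_cycle_of_d K p x (by rw [hd]; rfl)
    have h2 : Function.Bijective (K.homologyπ p).hom := by
      refine ⟨?_, homologyπ_surjective K p⟩
      rw [injective_iff_map_eq_zero]
      intro z hz
      obtain ⟨y, hy⟩ := (homologyπ_eq_zero_iff K (i := p - 1) (by omega) z).1 hz
      apply iCycles_injective K p
      rw [← hy, hd]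
      simp
    have := hK p
    have h3 : Module.Flat A (K.cycles p) := Module.Flat.of_linearEquiv (LinearEquiv.ofBijective _ h1)
    exact Module.Flat.of_linearEquiv (LinearEquiv.ofBijective _ h2).symm

/-! ### The family statements -/

lemma d_rTensor_rTensor (K : DRing.Cx A) (p q r : ℤ) {E : Type u} [AddCommGroup E] [Module A E]
    (t : K.X p ⊗[A] E) : (K.d q r).hom.rTensor E ((K.d p q).hom.rTensor E t) = 0 := by
  rw [← LinearMap.comp_apply, ← LinearMap.rTensor_comp, ← ModuleCat.hom_comp, K.d_comp_d,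
    ModuleCat.hom_zero, LinearMap.rTensor_zero, LinearMap.zero_apply]

lemma d_lTensor_lTensor (K : DRing.Cx A) (p q r : ℤ) {E : Type u} [AddCommGroup E] [Module A E]
    (t : E ⊗[A] K.X p) : (K.d q r).hom.lTensor E ((K.d p q).hom.lTensor E t) = 0 := by
  rw [← LinearMap.comp_apply, ← LinearMap.lTensor_comp, ← ModuleCat.hom_comp, K.d_comp_d,
    ModuleCat.hom_zero, LinearMap.lTensor_zero, LinearMap.zero_apply]

lemma map_units_smul {M N : Type u} [AddCommGroup M] [Module A M] [AddCommGroup N] [Module A N]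
    (f : M →ₗ[A] N) (u : ℤˣ) (x : M) : f (u • x) = u • f x :=
  map_zsmul f (u : ℤ) x

theorem surjProp_of_good (h : Good K) (L : DRing.Cx A) : SurjProp K L := by
  classical
  intro x hx
  -- the equations
  have h11 : ∀ p q : ℤ, (K.d p (p + 1)).hom.rTensor (L.X (q + 1)) (x p (q + 1)) =
      p.negOnePow • (L.d q (q + 1)).hom.lTensor (K.X (p + 1)) (x (p + 1) q) := by
    intro p q
    have h := congrFun (congrFun hx (p + 1)) (q + 1)
    rw [dtot_eq x rfl rfl, Int.negOnePow_succ] at h
    change _ + -p.negOnePow • _ = (0 : K.X (p + 1) ⊗[A] L.X (q + 1)) at h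
    rw [Units.neg_smul] at h
    exact eq_of_sub_eq_zero (by rw [sub_eq_add_neg]; exact h)
  have key : ∀ p q : ℤ, ∃ w : K.X p ⊗[A] L.X q, (x p (q + 1) = 0 → w = 0) ∧
      TensorProduct.map (K.d p (p + 1)).hom (L.d q (q + 1)).hom w =
        (K.d p (p + 1)).hom.rTensor (L.X (q + 1)) (x p (q + 1)) := by
    intro p q
    by_cases h0 : x p (q + 1) = 0
    · exact ⟨0, fun _ => rfl, by rw [h0, map_zero, map_zero]⟩
    · obtain ⟨w, hw⟩ := inter (K.d p (p + 1)).hom (L.d q (q + 1)).hom (h.pureB p) (x p (q + 1))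
        ⟨p.negOnePow • x (p + 1) q, by rw [map_units_smul, h11]⟩
      exact ⟨w, fun h1 => absurd h1 h0, hw⟩
  choose w hw0 hw using key
  obtain ⟨w', hw'⟩ : ∃ w' : ∀ p q : ℤ, K.X p ⊗[A] L.X q, ∀ p q, w' p q = p.negOnePow • w p q :=
    ⟨_, fun _ _ => rfl⟩
  refine ⟨w', fun p q h0 _ => by rw [hw', hw0 p q h0, smul_zero], ?_⟩
  have c1 : ∀ p q : ℤ, (K.d p (p + 1)).hom.rTensor (L.X q) (x p q - dtot w' p q) = 0 := by
    intro p q
    obtain ⟨p', rfl⟩ : ∃ p', p = p' + 1 := ⟨p - 1, by omega⟩
    obtain ⟨q', rfl⟩ : ∃ q', q = q' + 1 := ⟨q - 1, by omega⟩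
    rw [dtot_eq w' rfl rfl, map_sub, map_add, d_rTensor_rTensor, zero_add, map_units_smul, map_eq, hw',
      map_units_smul, smul_smul, Int.units_mul_self, one_smul, hw, sub_self]
  have c2 : ∀ p q : ℤ, (L.d q (q + 1)).hom.lTensor (K.X p) (x p q - dtot w' p q) = 0 := by
    intro p q
    obtain ⟨p', rfl⟩ : ∃ p', p = p' + 1 := ⟨p - 1, by omega⟩
    obtain ⟨q', rfl⟩ : ∃ q', q = q' + 1 := ⟨q - 1, by omega⟩
    rw [dtot_eq w' rfl rfl, map_sub, map_add, map_units_smul, d_lTensor_lTensor, smul_zero, add_zero,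
      map_eq', hw', map_units_smul, hw, h11, smul_smul, Int.units_mul_self, one_smul, sub_self]
  intro p q
  exact ker_ker _ _ _ _ (h.pureB p) (exact_iCycles K rfl) (h.pureZ p) (h.flatZ p)
    (exact_iCycles L rfl) _ (c1 p q) (c2 p q)

theorem injProp_of_good (h : Good K) (L : DRing.Cx A) : InjProp K L := by
  intro ζ w hζ
  have h2 : ∀ p q : ℤ, TensorProduct.map (K.d p (p + 1)).hom (L.d q (q + 1)).hom (w p q) = 0 := by
    intro p q
    obtain ⟨p', rfl⟩ : ∃ p', p = p' + 1 := ⟨p - 1, by omega⟩
    have hp := rTensor_map_iCycles (p' + 1) (q + 1) (p' + 1 + 1) (ζ (p' + 1) (q + 1))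
    rw [hζ, dtot_eq w rfl rfl, map_add, d_rTensor_rTensor, zero_add, map_units_smul, map_eq] at hp
    rwa [← smul_eq_zero_iff_eq (p' + 1).negOnePow]
  intro p q
  obtain ⟨p', rfl⟩ : ∃ p', p = p' + 1 := ⟨p - 1, by omega⟩
  obtain ⟨q', rfl⟩ : ∃ q', q = q' + 1 := ⟨q - 1, by omega⟩
  obtain ⟨u, hu⟩ := lift_right (K.d p' (p' + 1)).hom (L.d (q' + 1) (q' + 1 + 1)).hom
    (L.iCycles (q' + 1)).hom (h.pureB p') (h.flatB p') (exact_iCycles L rfl) (w p' (q' + 1)) (h2 _ _)
  refine inj_local (K.iCycles (p' + 1)).hom (L.iCycles (q' + 1)).hom (h.pureZ _)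
    (iCycles_injective L _) (h.flatX _) (K.toCycles p' (p' + 1)).hom (L.toCycles q' (q' + 1)).hom
    (K.homologyπ _).hom (L.homologyπ _).hom ?_ ?_ _ u ((p' + 1).negOnePow • w (p' + 1) q') ?_
  · rw [← ModuleCat.hom_comp, toCycles_comp_homologyπ, ModuleCat.hom_zero]
  · rw [← ModuleCat.hom_comp, toCycles_comp_homologyπ, ModuleCat.hom_zero]
  · rw [hζ, dtot_eq w rfl rfl, ← ModuleCat.hom_comp, ← ModuleCat.hom_comp, toCycles_i, toCycles_i, hu,
      map_units_smul]

/-- The Künneth map is bijective when the first complex has flat terms, boundaries and cohomology. -/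
theorem bijective_kMap_of_good (h : Good K) (L : DRing.Cx A) (n : ℤ) :
    Function.Bijective (kMap K L n) :=
  bijective_of (surjProp_of_good h L) (injProp_of_good h L) n

end Groth.Agent.Htor.H241.KGood
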