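import Groth.Agent.Htor.H241.TElt
import Mathlib.LinearAlgebra.TensorProduct.RightExactness

/-!
# The Künneth map

For complexes of `A`-modules `K` and `L`: existence, uniqueness and naturality of the Künneth map
`⊕_{i+j=n} H^i(K) ⊗ H^j(L) → H^n(K ⊗ L)`.
-/

set_option autoImplicit false
universe u

open CategoryTheory CategoryTheory.Limits MonoidalCategory HomologicalComplex TensorProduct

namespace Groth.Agent.Htor.H241.KMap

open Groth.Agent.Htor.H241.TElt

variable {A : Type u} [CommRing A] {K L : DRing.Cx A}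

/-! ### cycles and homology, elementwise -/

lemma iCycles_injective (K : DRing.Cx A) (i : ℤ) : Function.Injective (K.iCycles i) :=
  (ModuleCat.mono_iff_injective _).1 inferInstance

lemma homologyπ_surjective (K : DRing.Cx A) (i : ℤ) : Function.Surjective (K.homologyπ i) :=
  (ModuleCat.epi_iff_surjective _).1 inferInstance

lemma d_iCycles (K : DRing.Cx A) (i j : ℤ) (z : K.cycles i) : K.d i j (K.iCycles i z) = 0 := by
  rw [← ModuleCat.comp_apply, iCycles_d]
  rfl

lemma exists_cycle_of_d (K : DRing.Cx A) (i : ℤ) (x : K.X i) (h : K.d i (i + 1) x = 0) :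
    ∃ z : K.cycles i, K.iCycles i z = x := by
  let k : ModuleCat.of A (LinearMap.ker (K.d i (i + 1)).hom) ⟶ K.X i :=
    ModuleCat.ofHom (LinearMap.ker (K.d i (i + 1)).hom).subtype
  have hk : k ≫ K.d i (i + 1) = 0 := by
    ext y
    exact y.2
  refine ⟨K.liftCycles k (i + 1) (by simp) hk ⟨x, h⟩, ?_⟩
  rw [← ModuleCat.comp_apply, liftCycles_i]
  rfl

/-- a cycle is zero in homology iff it is a boundary -/
lemma homologyπ_eq_zero_iff (K : DRing.Cx A) {i j : ℤ} (hij : i + 1 = j) (z : K.cycles j) :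
    K.homologyπ j z = 0 ↔ ∃ y : K.X i, K.d i j y = K.iCycles j z := by
  subst hij
  have hex : (ShortComplex.mk (K.toCycles i (i + 1)) (K.homologyπ (i + 1))
      (by simp)).Exact :=
    ShortComplex.exact_of_g_is_cokernel _ (K.homologyIsCokernel i (i + 1) (by simp))
  constructor
  · intro h
    obtain ⟨y, hy⟩ := (ShortComplex.moduleCat_exact_iff _).1 hex z h
    refine ⟨y, ?_⟩
    rw [← hy]
    change _ = K.iCycles (i + 1) (K.toCycles i (i + 1) y)
    rw [← ModuleCat.comp_apply, toCycles_i]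
  · rintro ⟨y, hy⟩
    have : K.toCycles i (i + 1) y = z := by
      apply iCycles_injective
      rw [← hy, ← ModuleCat.comp_apply, toCycles_i]
    rw [← this, ← ModuleCat.comp_apply, toCycles_comp_homologyπ]
    rfl

lemma exact_toCycles (K : DRing.Cx A) {i j : ℤ} (hij : i + 1 = j) :
    Function.Exact (K.toCycles i j).hom (K.homologyπ j).hom := by
  intro z
  constructor
  · intro h
    obtain ⟨y, hy⟩ := (homologyπ_eq_zero_iff K hij z).1 h
    refine ⟨y, ?_⟩
    apply iCycles_injective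
    rw [← hy]
    change K.iCycles j (K.toCycles i j y) = _
    rw [← ModuleCat.comp_apply, toCycles_i]
  · rintro ⟨y, rfl⟩
    refine (homologyπ_eq_zero_iff K hij _).2 ⟨y, ?_⟩
    change _ = K.iCycles j (K.toCycles i j y)
    rw [← ModuleCat.comp_apply, toCycles_i]

/-! ### The product of two cycles -/

variable (K L) in
/-- the inclusion of the products of cycles -/
noncomputable def cycI (i j n : ℤ) (h : i + j = n) :
    (K.cycles i ⊗[A] L.cycles j) →ₗ[A] (HTor.tensorCx K L).X n :=
  tI K L i j n h ∘ₗ TensorProduct.map (K.iCycles i).hom (L.iCycles j).hom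

lemma rTensor_map_iCycles (i j : ℤ) (i' : ℤ) (x : K.cycles i ⊗[A] L.cycles j) :
    (K.d i i').hom.rTensor (L.X j) (TensorProduct.map (K.iCycles i).hom (L.iCycles j).hom x) = 0 := by
  rw [← LinearMap.comp_apply, LinearMap.rTensor_comp_map]
  have : (K.d i i').hom ∘ₗ (K.iCycles i).hom = 0 := by
    ext z
    exact d_iCycles K i i' z
  rw [this, TensorProduct.map_zero_left, LinearMap.zero_apply]

lemma lTensor_map_iCycles (i j : ℤ) (j' : ℤ) (x : K.cycles i ⊗[A] L.cycles j) :
    (L.d j j').hom.lTensor (K.X i) (TensorProduct.map (K.iCycles i).hom (L.iCycles j).hom x) = 0 := by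
  rw [← LinearMap.comp_apply, LinearMap.lTensor_comp_map]
  have : (L.d j j').hom ∘ₗ (L.iCycles j).hom = 0 := by
    ext z
    exact d_iCycles L j j' z
  rw [this, TensorProduct.map_zero_right, LinearMap.zero_apply]

lemma d_cycI (i j n : ℤ) (h : i + j = n) (x : K.cycles i ⊗[A] L.cycles j) :
    (HTor.tensorCx K L).d n (n + 1) (cycI K L i j n h x) = 0 := by
  rw [cycI, LinearMap.comp_apply, d_tI, rTensor_map_iCycles, lTensor_map_iCycles, map_zero, map_zero,
    smul_zero, add_zero]

variable (K L) in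
/-- the product of two cycles, as a morphism -/
noncomputable def cycM (i j n : ℤ) (h : i + j = n) :
    ModuleCat.of A (K.cycles i ⊗[A] L.cycles j) ⟶ (HTor.tensorCx K L).cycles n :=
  (HTor.tensorCx K L).liftCycles (ModuleCat.ofHom (cycI K L i j n h)) (n + 1) (by simp)
    (ModuleCat.hom_ext (LinearMap.ext fun x => d_cycI i j n h x))

variable (K L) in
/-- the product of two cycles, as a linear map -/
noncomputable def cyc (i j n : ℤ) (h : i + j = n) :
    (K.cycles i ⊗[A] L.cycles j) →ₗ[A] (HTor.tensorCx K L).cycles n :=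
  (cycM K L i j n h).hom

lemma iCycles_cyc (i j n : ℤ) (h : i + j = n) (x : K.cycles i ⊗[A] L.cycles j) :
    (HTor.tensorCx K L).iCycles n (cyc K L i j n h x) =
      tI K L i j n h (TensorProduct.map (K.iCycles i).hom (L.iCycles j).hom x) := by
  have e : cycM K L i j n h ≫ (HTor.tensorCx K L).iCycles n = ModuleCat.ofHom (cycI K L i j n h) :=
    liftCycles_i _ _ _ _ _
  exact congrArg (fun g => g.hom x) e

/-- products of cycles exist, in the form used by `HTor.IsKunnethMap` -/
theorem exists_cycle {n : ℤ} (ij : HTor.Antidiag n) (z : K.cycles ij.1.1) (z' : L.cycles ij.1.2) :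
    ∃ w : (HTor.tensorCx K L).cycles n, (HTor.tensorCx K L).iCycles n w =
      HomologicalComplex.ιTensorObj K L ij.1.1 ij.1.2 n ij.2
        ((K.iCycles ij.1.1 z ⊗ₜ[A] L.iCycles ij.1.2 z' : TensorProduct A (K.X ij.1.1) (L.X ij.1.2))) :=
  ⟨cyc K L ij.1.1 ij.1.2 n ij.2 (z ⊗ₜ z'), iCycles_cyc _ _ _ _ _⟩

lemma eq_cyc {n : ℤ} {ij : HTor.Antidiag n} {z : K.cycles ij.1.1} {z' : L.cycles ij.1.2}
    {w : (HTor.tensorCx K L).cycles n} (hw : (HTor.tensorCx K L).iCycles n w =
      HomologicalComplex.ιTensorObj K L ij.1.1 ij.1.2 n ij.2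
        ((K.iCycles ij.1.1 z ⊗ₜ[A] L.iCycles ij.1.2 z' : TensorProduct A (K.X ij.1.1) (L.X ij.1.2)))) :
    w = cyc K L ij.1.1 ij.1.2 n ij.2 (z ⊗ₜ z') := by
  apply iCycles_injective
  rw [hw, iCycles_cyc]
  rfl

/-! ### The Künneth map -/

lemma map_iCycles_lTensor (i j : ℤ) (x : K.cycles i ⊗[A] L.X j) :
    TensorProduct.map (K.iCycles i).hom (L.iCycles (j + 1)).hom
      ((L.toCycles j (j + 1)).hom.lTensor (K.cycles i) x) =
    (L.d j (j + 1)).hom.lTensor (K.X i) ((K.iCycles i).hom.rTensor (L.X j) x) := by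
  have e : (L.iCycles (j + 1)).hom ∘ₗ (L.toCycles j (j + 1)).hom = (L.d j (j + 1)).hom := by
    rw [← ModuleCat.hom_comp, toCycles_i]
  rw [← LinearMap.comp_apply, ← LinearMap.comp_apply, LinearMap.map_comp_lTensor, e,
    LinearMap.lTensor_comp_rTensor]

lemma map_iCycles_rTensor (i j : ℤ) (x : K.X i ⊗[A] L.cycles j) :
    TensorProduct.map (K.iCycles (i + 1)).hom (L.iCycles j).hom
      ((K.toCycles i (i + 1)).hom.rTensor (L.cycles j) x) =
    (K.d i (i + 1)).hom.rTensor (L.X j) ((L.iCycles j).hom.lTensor (K.X i) x) := by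
  have e : (K.iCycles (i + 1)).hom ∘ₗ (K.toCycles i (i + 1)).hom = (K.d i (i + 1)).hom := by
    rw [← ModuleCat.hom_comp, toCycles_i]
  rw [← LinearMap.comp_apply, ← LinearMap.comp_apply, LinearMap.map_comp_rTensor, e,
    LinearMap.rTensor_comp_lTensor]

lemma homologyπ_cyc_lTensor (i j n : ℤ) (h : i + (j + 1) = n) (x : K.cycles i ⊗[A] L.X j) :
    (HTor.tensorCx K L).homologyπ n
      (cyc K L i (j + 1) n h ((L.toCycles j (j + 1)).hom.lTensor (K.cycles i) x)) = 0 := by
  obtain ⟨m, rfl⟩ : ∃ m, n = m + 1 := ⟨n - 1, by omega⟩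
  refine (homologyπ_eq_zero_iff _ rfl _).2
    ⟨i.negOnePow • tI K L i j m (by omega) ((K.iCycles i).hom.rTensor (L.X j) x), ?_⟩
  have hs : (HTor.tensorCx K L).d m (m + 1)
      (i.negOnePow • tI K L i j m (by omega) ((K.iCycles i).hom.rTensor (L.X j) x)) = i.negOnePow •
      (HTor.tensorCx K L).d m (m + 1) (tI K L i j m (by omega) ((K.iCycles i).hom.rTensor (L.X j) x)) :=
    map_zsmul ((HTor.tensorCx K L).d m (m + 1)).hom (i.negOnePow : ℤ) _
  have h1 : (K.d i (i + 1)).hom.rTensor (L.X j) ((K.iCycles i).hom.rTensor (L.X j) x) = 0 := by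
    rw [← LinearMap.comp_apply, ← LinearMap.rTensor_comp, ← ModuleCat.hom_comp, iCycles_d,
      ModuleCat.hom_zero, LinearMap.rTensor_zero, LinearMap.zero_apply]
  rw [iCycles_cyc, hs, d_tI, h1, map_zero, zero_add, smul_smul, Int.units_mul_self, one_smul,
    map_iCycles_lTensor]

lemma homologyπ_cyc_rTensor (i j n : ℤ) (h : i + 1 + j = n) (x : K.X i ⊗[A] L.cycles j) :
    (HTor.tensorCx K L).homologyπ n
      (cyc K L (i + 1) j n h ((K.toCycles i (i + 1)).hom.rTensor (L.cycles j) x)) = 0 := by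
  obtain ⟨m, rfl⟩ : ∃ m, n = m + 1 := ⟨n - 1, by omega⟩
  refine (homologyπ_eq_zero_iff _ rfl _).2
    ⟨tI K L i j m (by omega) ((L.iCycles j).hom.lTensor (K.X i) x), ?_⟩
  have h1 : (L.d j (j + 1)).hom.lTensor (K.X i) ((L.iCycles j).hom.lTensor (K.X i) x) = 0 := by
    rw [← LinearMap.comp_apply, ← LinearMap.lTensor_comp, ← ModuleCat.hom_comp, iCycles_d,
      ModuleCat.hom_zero, LinearMap.lTensor_zero, LinearMap.zero_apply]
  rw [iCycles_cyc, d_tI, h1, map_zero, smul_zero, add_zero, map_iCycles_rTensor]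

/-- extension of a linear map along a surjection -/
lemma exists_desc {M N P : Type u} [AddCommGroup M] [Module A M] [AddCommGroup N] [Module A N]
    [AddCommGroup P] [Module A P] (g : M →ₗ[A] N) (hg : Function.Surjective g) (f : M →ₗ[A] P)
    (h : LinearMap.ker g ≤ LinearMap.ker f) : ∃ φ : N →ₗ[A] P, φ ∘ₗ g = f := by
  refine ⟨(LinearMap.ker g).liftQ f h ∘ₗ (g.quotKerEquivOfSurjective hg).symm.toLinearMap, ?_⟩
  ext x
  have : (g.quotKerEquivOfSurjective hg).symm (g x) = (LinearMap.ker g).mkQ x := by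
    rw [LinearEquiv.symm_apply_eq]
    rfl
  rw [LinearMap.comp_apply, LinearMap.comp_apply, LinearEquiv.coe_coe, this]
  rfl

lemma map_homologyπ_surjective (i j : ℤ) :
    Function.Surjective (TensorProduct.map (K.homologyπ i).hom (L.homologyπ j).hom) :=
  TensorProduct.map_surjective (homologyπ_surjective K i) (homologyπ_surjective L j)

lemma exists_kComp (i j n : ℤ) (h : i + j = n) :
    ∃ φ : (K.homology i ⊗[A] L.homology j) →ₗ[A] (HTor.tensorCx K L).homology n,
      φ ∘ₗ TensorProduct.map (K.homologyπ i).hom (L.homologyπ j).hom =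
        ((HTor.tensorCx K L).homologyπ n).hom ∘ₗ cyc K L i j n h := by
  refine exists_desc _ (map_homologyπ_surjective i j) _ ?_
  obtain ⟨i', rfl⟩ : ∃ i', i = i' + 1 := ⟨i - 1, by omega⟩
  obtain ⟨j', rfl⟩ : ∃ j', j = j' + 1 := ⟨j - 1, by omega⟩
  rw [TensorProduct.map_ker (exact_toCycles K rfl) (homologyπ_surjective K _)
    (exact_toCycles L rfl) (homologyπ_surjective L _)]
  refine sup_le ?_ ?_
  · rintro _ ⟨x, rfl⟩
    exact homologyπ_cyc_lTensor _ _ _ h x
  · rintro _ ⟨x, rfl⟩
    exact homologyπ_cyc_rTensor _ _ _ h x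

variable (K L) in
/-- a component of the Künneth map -/
noncomputable def kComp (i j n : ℤ) (h : i + j = n) :
    (K.homology i ⊗[A] L.homology j) →ₗ[A] (HTor.tensorCx K L).homology n :=
  (exists_kComp i j n h).choose

lemma kComp_map (i j n : ℤ) (h : i + j = n) (x : K.cycles i ⊗[A] L.cycles j) :
    kComp K L i j n h (TensorProduct.map (K.homologyπ i).hom (L.homologyπ j).hom x) =
      (HTor.tensorCx K L).homologyπ n (cyc K L i j n h x) :=
  congrArg (fun g => g x) (exists_kComp (K := K) (L := L) i j n h).choose_spec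

variable (K L) in
/-- the Künneth map -/
noncomputable def kMap (n : ℤ) : HTor.KunnethSum K L n →ₗ[A] (HTor.tensorCx K L).homology n :=
  DirectSum.toModule A (HTor.Antidiag n) _ (fun ij => kComp K L ij.1.1 ij.1.2 n ij.2)

@[simp]
lemma kMap_lof {n : ℤ} (ij : HTor.Antidiag n) (x : K.homology ij.1.1 ⊗[A] L.homology ij.1.2) :
    kMap K L n (DirectSum.lof A (HTor.Antidiag n)
      (fun ij => TensorProduct A (K.homology ij.1.1) (L.homology ij.1.2)) ij x) =
      kComp K L ij.1.1 ij.1.2 n ij.2 x := by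
  rw [kMap, DirectSum.toModule_lof]

theorem isKunnethMap_kMap (n : ℤ) : HTor.IsKunnethMap K L n (kMap K L n) := by
  intro ij z z' w hw
  rw [kMap_lof, eq_cyc hw, ← kComp_map]
  rfl

theorem exists_kunnethMap (K L : DRing.Cx A) (n : ℤ) : ∃ Φ, HTor.IsKunnethMap K L n Φ :=
  ⟨_, isKunnethMap_kMap n⟩

theorem IsKunnethMap.apply_lof {n : ℤ} {Φ : HTor.KunnethSum K L n →ₗ[A] (HTor.tensorCx K L).homology n}
    (hΦ : HTor.IsKunnethMap K L n Φ) (ij : HTor.Antidiag n) (x : K.cycles ij.1.1 ⊗[A] L.cycles ij.1.2) :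
    Φ (DirectSum.lof A (HTor.Antidiag n)
      (fun ij => TensorProduct A (K.homology ij.1.1) (L.homology ij.1.2)) ij
        (TensorProduct.map (K.homologyπ ij.1.1).hom (L.homologyπ ij.1.2).hom x)) =
      (HTor.tensorCx K L).homologyπ n (cyc K L ij.1.1 ij.1.2 n ij.2 x) := by
  induction x using TensorProduct.induction_on with
  | zero => simp only [map_zero]
  | add x y hx hy => simp only [map_add, hx, hy]
  | tmul z z' => exact hΦ ij z z' _ (iCycles_cyc _ _ _ _ _)

theorem unique {n : ℤ} {Φ Ψ : HTor.KunnethSum K L n →ₗ[A] (HTor.tensorCx K L).homology n}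
    (hΦ : HTor.IsKunnethMap K L n Φ) (hΨ : HTor.IsKunnethMap K L n Ψ) : Φ = Ψ := by
  refine DirectSum.linearMap_ext A (fun ij => LinearMap.ext fun y => ?_)
  obtain ⟨x, rfl⟩ := map_homologyπ_surjective _ _ y
  rw [LinearMap.comp_apply, LinearMap.comp_apply, IsKunnethMap.apply_lof hΦ, IsKunnethMap.apply_lof hΨ]

theorem eq_kMap {n : ℤ} {Φ : HTor.KunnethSum K L n →ₗ[A] (HTor.tensorCx K L).homology n}
    (hΦ : HTor.IsKunnethMap K L n Φ) : Φ = kMap K L n :=
  unique hΦ (isKunnethMap_kMap n)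

/-! ### Naturality -/

section Naturality

variable {K' L' : DRing.Cx A} (f : K ⟶ K') (g : L ⟶ L')

lemma tensorHom_tI (i j n : ℤ) (h : i + j = n) (x : K.X i ⊗[A] L.X j) :
    (HomologicalComplex.tensorHom f g).f n (tI K L i j n h x) =
      tI K' L' i j n h (TensorProduct.map (f.f i).hom (g.f j).hom x) := by
  have e := ι_mapBifunctorMap f g (curriedTensor (ModuleCat.{u} A)) (ComplexShape.up ℤ) i j n h
  refine (congrArg (fun g => g.hom x) e).trans ?_
  change tI K' L' i j n h ((g.f j).hom.lTensor (K'.X i) ((f.f i).hom.rTensor (L.X j) x)) = _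
  rw [← LinearMap.comp_apply ((g.f j).hom.lTensor (K'.X i)), LinearMap.lTensor_comp_rTensor]

lemma cyclesMap_cyc (i j n : ℤ) (h : i + j = n) (x : K.cycles i ⊗[A] L.cycles j) :
    cyclesMap (HomologicalComplex.tensorHom f g) n (cyc K L i j n h x) =
      cyc K' L' i j n h (TensorProduct.map (cyclesMap f i).hom (cyclesMap g j).hom x) := by
  apply iCycles_injective
  rw [← ModuleCat.comp_apply, cyclesMap_i, ModuleCat.comp_apply, iCycles_cyc, iCycles_cyc, tensorHom_tI,
    ← LinearMap.comp_apply (TensorProduct.map (f.f i).hom (g.f j).hom), ← TensorProduct.map_comp,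
    ← LinearMap.comp_apply (TensorProduct.map (K'.iCycles i).hom (L'.iCycles j).hom),
    ← TensorProduct.map_comp, ← ModuleCat.hom_comp, ← ModuleCat.hom_comp, ← ModuleCat.hom_comp,
    ← ModuleCat.hom_comp, cyclesMap_i, cyclesMap_i]

lemma map_homologyMap (i j : ℤ) (x : K.cycles i ⊗[A] L.cycles j) :
    TensorProduct.map (homologyMap f i).hom (homologyMap g j).hom
      (TensorProduct.map (K.homologyπ i).hom (L.homologyπ j).hom x) =
    TensorProduct.map (K'.homologyπ i).hom (L'.homologyπ j).hom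
      (TensorProduct.map (cyclesMap f i).hom (cyclesMap g j).hom x) := by
  rw [← LinearMap.comp_apply, ← LinearMap.comp_apply, ← TensorProduct.map_comp,
    ← TensorProduct.map_comp, ← ModuleCat.hom_comp, ← ModuleCat.hom_comp, ← ModuleCat.hom_comp,
    ← ModuleCat.hom_comp, homologyπ_naturality, homologyπ_naturality]

lemma homologyMap_kComp (i j n : ℤ) (h : i + j = n) (y : K.homology i ⊗[A] L.homology j) :
    homologyMap (HomologicalComplex.tensorHom f g) n (kComp K L i j n h y) =
      kComp K' L' i j n h (TensorProduct.map (homologyMap f i).hom (homologyMap g j).hom y) := by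
  obtain ⟨x, rfl⟩ := map_homologyπ_surjective _ _ y
  rw [map_homologyMap, kComp_map, kComp_map, ← cyclesMap_cyc, ← ModuleCat.comp_apply,
    homologyπ_naturality, ModuleCat.comp_apply]

/-- the map induced on the sums `⊕ H^i ⊗ H^j` -/
noncomputable def sumMap (n : ℤ) : HTor.KunnethSum K L n →ₗ[A] HTor.KunnethSum K' L' n :=
  DirectSum.lmap (fun ij : HTor.Antidiag n =>
    TensorProduct.map (homologyMap f ij.1.1).hom (homologyMap g ij.1.2).hom)

lemma sumMap_lof {n : ℤ} (ij : HTor.Antidiag n) (y : K.homology ij.1.1 ⊗[A] L.homology ij.1.2) :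
    sumMap f g n (DirectSum.lof A (HTor.Antidiag n)
      (fun ij => TensorProduct A (K.homology ij.1.1) (L.homology ij.1.2)) ij y) =
    DirectSum.lof A (HTor.Antidiag n)
      (fun ij => TensorProduct A (K'.homology ij.1.1) (L'.homology ij.1.2)) ij
      (TensorProduct.map (homologyMap f ij.1.1).hom (homologyMap g ij.1.2).hom y) :=
  DirectSum.lmap_lof _ _ _

theorem homologyMap_kMap (n : ℤ) (x : HTor.KunnethSum K L n) :
    homologyMap (HomologicalComplex.tensorHom f g) n (kMap K L n x) = kMap K' L' n (sumMap f g n x) := by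
  have : (homologyMap (HomologicalComplex.tensorHom f g) n).hom ∘ₗ kMap K L n =
      kMap K' L' n ∘ₗ sumMap f g n := by
    refine DirectSum.linearMap_ext A (fun ij => LinearMap.ext fun y => ?_)
    rw [LinearMap.comp_apply, LinearMap.comp_apply, LinearMap.comp_apply, LinearMap.comp_apply,
      kMap_lof, sumMap_lof, kMap_lof]
    exact homologyMap_kComp f g _ _ _ _ y
  exact congrArg (fun g => g x) this

/-- naturality of the Künneth map, stated for the predicate `HTor.IsKunnethMap` -/
theorem naturality {n : ℤ} {Φ : HTor.KunnethSum K L n →ₗ[A] (HTor.tensorCx K L).homology n}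
    {Φ' : HTor.KunnethSum K' L' n →ₗ[A] (HTor.tensorCx K' L').homology n}
    (hΦ : HTor.IsKunnethMap K L n Φ) (hΦ' : HTor.IsKunnethMap K' L' n Φ')
    (x : HTor.KunnethSum K L n) :
    homologyMap (HomologicalComplex.tensorHom f g) n (Φ x) = Φ' (sumMap f g n x) := by
  rw [eq_kMap hΦ, eq_kMap hΦ']
  exact homologyMap_kMap f g n x

end Naturality

end Groth.Agent.Htor.H241.KMap
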