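import Groth.Prelude.Def_HTor

/-!
# Elements of the tensor product of two cochain complexes of modules

`tI K L i j n h : K^i ⊗ L^j →ₗ (K ⊗ L)^n`, the formula for the differential, and the family of components
`fam t : ∀ p q, K^p ⊗ L^q` of an element of `(K ⊗ L)^n`.
-/

set_option autoImplicit false
universe u

open CategoryTheory CategoryTheory.Limits MonoidalCategory HomologicalComplex TensorProduct

namespace Groth.Agent.Htor.H241.TElt

variable {A : Type u} [CommRing A] (K L : DRing.Cx A)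

/-- the inclusion of a summand, as a linear map -/
noncomputable def tI (i j n : ℤ) (h : i + j = n) :
    (K.X i ⊗[A] L.X j) →ₗ[A] (HTor.tensorCx K L).X n :=
  (ιTensorObj K L i j n h).hom

lemma tI_def (i j n : ℤ) (h : i + j = n) (x : K.X i ⊗[A] L.X j) :
    tI K L i j n h x = ιTensorObj K L i j n h x := rfl

/-- linear maps out of `(K ⊗ L)^n` -/
noncomputable def tDesc {P : Type u} [AddCommGroup P] [Module A P] (n : ℤ)
    (f : ∀ (i j : ℤ) (_ : i + j = n), (K.X i ⊗[A] L.X j) →ₗ[A] P) :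
    (HTor.tensorCx K L).X n →ₗ[A] P :=
  (mapBifunctorDesc (K₁ := K) (K₂ := L) (F := curriedTensor (ModuleCat.{u} A))
    (c := ComplexShape.up ℤ) (j := n) (A := ModuleCat.of A P)
    (fun i j h => ModuleCat.ofHom (X := K.X i ⊗[A] L.X j) (f i j h))).hom

variable {K L}

@[simp]
lemma tDesc_tI {P : Type u} [AddCommGroup P] [Module A P] {n : ℤ}
    (f : ∀ (i j : ℤ) (_ : i + j = n), (K.X i ⊗[A] L.X j) →ₗ[A] P) (i j : ℤ) (h : i + j = n)
    (x : K.X i ⊗[A] L.X j) : tDesc K L n f (tI K L i j n h x) = f i j h x := by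
  have e := ι_mapBifunctorDesc (K₁ := K) (K₂ := L) (F := curriedTensor (ModuleCat.{u} A))
    (c := ComplexShape.up ℤ) (j := n) (A := ModuleCat.of A P)
    (fun i j h => ModuleCat.ofHom (X := K.X i ⊗[A] L.X j) (f i j h)) i j h
  exact congrArg (fun g => g.hom x) e

lemma hom_ext {P : Type u} [AddCommGroup P] [Module A P] {n : ℤ}
    {f g : (HTor.tensorCx K L).X n →ₗ[A] P}
    (h : ∀ (i j : ℤ) (h : i + j = n) (x : K.X i ⊗[A] L.X j),
      f (tI K L i j n h x) = g (tI K L i j n h x)) : f = g := by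
  have e : ModuleCat.ofHom f = ModuleCat.ofHom g := by
    refine mapBifunctor.hom_ext (K₁ := K) (K₂ := L) (F := curriedTensor (ModuleCat.{u} A))
      (c := ComplexShape.up ℤ) (j := n) (Y := ModuleCat.of A P) (fun i j hij => ?_)
    ext x
    exact h i j hij x
  exact congrArg (fun g => g.hom) e

/-- every element is a sum of elements in the summands -/
@[elab_as_elim]
theorem induction {n : ℤ} {motive : (HTor.tensorCx K L).X n → Prop}
    (t : (HTor.tensorCx K L).X n) (h0 : motive 0)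
    (hι : ∀ (i j : ℤ) (h : i + j = n) (x : K.X i ⊗[A] L.X j), motive (tI K L i j n h x))
    (hadd : ∀ s t, motive s → motive t → motive (s + t)) : motive t := by
  classical
  let S : Submodule A ((HTor.tensorCx K L).X n) :=
    ⨆ (i : ℤ), LinearMap.range (tI K L i (n - i) n (by omega))
  have hS : S = ⊤ := by
    rw [← Submodule.ker_mkQ S, LinearMap.ker_eq_top]
    refine hom_ext (fun i j h x => ?_)
    obtain rfl : j = n - i := by omega
    rw [LinearMap.zero_apply]
    refine (Submodule.Quotient.mk_eq_zero _).2 ?_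
    exact (le_iSup (fun i => LinearMap.range (tI K L i (n - i) n (by omega))) i) ⟨x, rfl⟩
  have ht : t ∈ S := hS ▸ Submodule.mem_top
  induction ht using Submodule.iSup_induction' with
  | mem i x hx =>
    obtain ⟨y, rfl⟩ := hx
    exact hι _ _ _ _
  | zero => exact h0
  | add x y _ _ hx hy => exact hadd _ _ hx hy

/-- the differential of the tensor product on a summand -/
theorem d_tI (i j n : ℤ) (h : i + j = n) (x : K.X i ⊗[A] L.X j) :
    (HTor.tensorCx K L).d n (n + 1) (tI K L i j n h x) =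
      tI K L (i + 1) j (n + 1) (by omega) ((K.d i (i + 1)).hom.rTensor (L.X j) x) +
        i.negOnePow • tI K L i (j + 1) (n + 1) (by omega) ((L.d j (j + 1)).hom.lTensor (K.X i) x) := by
  have e : ιTensorObj K L i j n h ≫ (HTor.tensorCx K L).d n (n + 1) =
      (K.d i (i + 1) ▷ L.X j) ≫ ιTensorObj K L (i + 1) j (n + 1) (by omega) +
        i.negOnePow • ((K.X i ◁ L.d j (j + 1)) ≫ ιTensorObj K L i (j + 1) (n + 1) (by omega)) := by
    rw [mapBifunctor.d_eq, Preadditive.comp_add, mapBifunctor.ι_D₁, mapBifunctor.ι_D₂]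
    have h1 : (ComplexShape.up ℤ).Rel i (i + 1) := rfl
    have h2 : (ComplexShape.up ℤ).Rel j (j + 1) := rfl
    rw [mapBifunctor.d₁_eq K L (curriedTensor (ModuleCat.{u} A)) (ComplexShape.up ℤ) h1 j (n + 1)
        (by change i + 1 + j = n + 1; omega),
      mapBifunctor.d₂_eq K L (curriedTensor (ModuleCat.{u} A)) (ComplexShape.up ℤ) i h2 (n + 1)
        (by change i + (j + 1) = n + 1; omega)]
    rw [show ComplexShape.ε₁ (ComplexShape.up ℤ) (ComplexShape.up ℤ) (ComplexShape.up ℤ) (i, j) = 1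
      from rfl, one_smul]
    rfl
  exact congrArg (fun g => g.hom x) e

/-! ### Families of components -/

/-- the family supported at `(i, j)` -/
noncomputable def sgl (i j : ℤ) : (K.X i ⊗[A] L.X j) →ₗ[A] (∀ p q : ℤ, K.X p ⊗[A] L.X q) :=
  LinearMap.single A (fun p : ℤ => ∀ q : ℤ, (K.X p ⊗[A] L.X q)) i ∘ₗ
    LinearMap.single A (fun q : ℤ => (K.X i ⊗[A] L.X q)) j

@[simp]
lemma sgl_same (i j : ℤ) (x : K.X i ⊗[A] L.X j) : sgl i j x i j = x := by
  simp [sgl]

lemma sgl_ne_left {i j p : ℤ} (q : ℤ) (h : p ≠ i) (x : K.X i ⊗[A] L.X j) : sgl i j x p q = 0 := by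
  simp [sgl, h]

lemma sgl_ne_right {i j q : ℤ} (p : ℤ) (h : q ≠ j) (x : K.X i ⊗[A] L.X j) : sgl i j x p q = 0 := by
  by_cases hp : p = i
  · subst hp
    simp [sgl, h]
  · exact sgl_ne_left q hp x

/-- the total differential on families -/
noncomputable def dtot (x : ∀ p q : ℤ, K.X p ⊗[A] L.X q) : ∀ p q : ℤ, K.X p ⊗[A] L.X q := fun p q =>
  (K.d (p - 1) p).hom.rTensor (L.X q) (x (p - 1) q) +
    p.negOnePow • (L.d (q - 1) q).hom.lTensor (K.X p) (x p (q - 1))

lemma dtot_eq (x : ∀ p q : ℤ, K.X p ⊗[A] L.X q) {p' p q' q : ℤ} (hp : p' + 1 = p) (hq : q' + 1 = q) :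
    dtot x p q = (K.d p' p).hom.rTensor (L.X q) (x p' q) +
      p.negOnePow • (L.d q' q).hom.lTensor (K.X p) (x p q') := by
  obtain rfl : p' = p - 1 := by omega
  obtain rfl : q' = q - 1 := by omega
  rfl

lemma dtot_add (x y : ∀ p q : ℤ, K.X p ⊗[A] L.X q) : dtot (x + y) = dtot x + dtot y := by
  funext p q
  simp only [dtot, Pi.add_apply, map_add, smul_add]
  abel

@[simp]
lemma dtot_zero : dtot (0 : ∀ p q : ℤ, K.X p ⊗[A] L.X q) = 0 := by
  funext p q
  simp [dtot]

/-- the family of components of an element of `(K ⊗ L)^n` -/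
noncomputable def fam {n : ℤ} : (HTor.tensorCx K L).X n →ₗ[A] (∀ p q : ℤ, K.X p ⊗[A] L.X q) :=
  tDesc K L n (fun i j _ => sgl i j)

@[simp]
lemma fam_tI (i j n : ℤ) (h : i + j = n) (x : K.X i ⊗[A] L.X j) : fam (tI K L i j n h x) = sgl i j x := by
  rw [fam, tDesc_tI]

lemma fam_eq_zero {n : ℤ} (t : (HTor.tensorCx K L).X n) {p q : ℤ} (h : p + q ≠ n) : fam t p q = 0 := by
  induction t using induction with
  | h0 => simp
  | hι i j hij x =>
    rw [fam_tI]
    by_cases hp : p = i
    · exact sgl_ne_right _ (by omega) _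
    · exact sgl_ne_left _ hp _
  | hadd s t hs ht => rw [map_add, Pi.add_apply, Pi.add_apply, hs, ht, add_zero]

theorem fam_d {n : ℤ} (t : (HTor.tensorCx K L).X n) :
    fam ((HTor.tensorCx K L).d n (n + 1) t) = dtot (fam t) := by
  induction t using induction with
  | h0 => rw [map_zero, map_zero, map_zero, dtot_zero]
  | hadd s t hs ht => rw [map_add, map_add, hs, ht, map_add, dtot_add]
  | hι i j h x =>
    have hsm : ∀ (u : ℤˣ) (t : (HTor.tensorCx K L).X (n + 1)), fam (u • t) = u • fam t := fun u t =>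
      map_zsmul fam (u : ℤ) t
    rw [d_tI, map_add, hsm, fam_tI, fam_tI, fam_tI]
    funext p q
    obtain ⟨p', rfl⟩ : ∃ p', p' + 1 = p := ⟨p - 1, by omega⟩
    obtain ⟨q', rfl⟩ : ∃ q', q' + 1 = q := ⟨q - 1, by omega⟩
    rw [dtot_eq _ rfl rfl]
    rw [Pi.add_apply, Pi.add_apply, Pi.smul_apply, Pi.smul_apply]
    congr 1
    · by_cases hp : p' = i
      · subst hp
        by_cases hq : q' + 1 = j
        · subst hq
          rw [sgl_same, sgl_same]
        · rw [sgl_ne_right _ hq, sgl_ne_right _ hq, map_zero]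
      · rw [sgl_ne_left _ (by omega), sgl_ne_left _ hp, map_zero]
    · by_cases hp : p' + 1 = i
      · subst hp
        by_cases hq : q' = j
        · subst hq
          rw [sgl_same, sgl_same]
        · rw [sgl_ne_right _ (by omega), sgl_ne_right _ hq, map_zero, smul_zero]
      · rw [sgl_ne_left _ hp, sgl_ne_left _ hp, map_zero, smul_zero, smul_zero]

/-- the element of `(K ⊗ L)^n` given by a family and a finite set of first indices -/
noncomputable def mk (n : ℤ) (S : Finset ℤ) (w : ∀ p q : ℤ, K.X p ⊗[A] L.X q) : (HTor.tensorCx K L).X n :=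
  ∑ p ∈ S, tI K L p (n - p) n (by omega) (w p (n - p))

lemma fam_mk_of_mem {n : ℤ} {S : Finset ℤ} (w : ∀ p q : ℤ, K.X p ⊗[A] L.X q) {p q : ℤ} (h : p + q = n)
    (hp : p ∈ S) : fam (mk n S w) p q = w p q := by
  classical
  obtain rfl : q = n - p := by omega
  rw [mk, map_sum, Finset.sum_apply, Finset.sum_apply, Finset.sum_eq_single p]
  · rw [fam_tI, sgl_same]
  · intro b _ hb
    rw [fam_tI, sgl_ne_left _ hb.symm]
  · intro h
    exact absurd hp h

lemma fam_mk_of_notMem {n : ℤ} {S : Finset ℤ} (w : ∀ p q : ℤ, K.X p ⊗[A] L.X q) {p q : ℤ}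
    (hp : p ∉ S) : fam (mk n S w) p q = 0 := by
  classical
  rw [mk, map_sum, Finset.sum_apply, Finset.sum_apply, Finset.sum_eq_zero]
  intro b hb
  rw [fam_tI, sgl_ne_left _ (by rintro rfl; exact hp hb)]

/-- the family `fam (mk n S w)` is `w` in total degree `n` if `S` contains the support -/
lemma fam_mk {n : ℤ} {S : Finset ℤ} (w : ∀ p q : ℤ, K.X p ⊗[A] L.X q)
    (hS : ∀ p q, p + q = n → p ∉ S → w p q = 0) {p q : ℤ} (h : p + q = n) :
    fam (mk n S w) p q = w p q := by
  by_cases hp : p ∈ S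
  · exact fam_mk_of_mem w h hp
  · rw [fam_mk_of_notMem w hp, hS p q h hp]

lemma exists_eq_mk {n : ℤ} (t : (HTor.tensorCx K L).X n) :
    ∃ S : Finset ℤ, ∀ S' : Finset ℤ, S ⊆ S' → t = mk n S' (fam t) := by
  classical
  induction t using induction with
  | h0 => exact ⟨∅, fun S' _ => by simp [mk]⟩
  | hι i j h x =>
    refine ⟨{i}, fun S' hS' => ?_⟩
    obtain rfl : j = n - i := by omega
    rw [mk, Finset.sum_eq_single i]
    · rw [fam_tI, sgl_same]
    · intro b _ hb
      rw [fam_tI, sgl_ne_left _ hb, map_zero]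
    · intro hi
      exact absurd (hS' (Finset.mem_singleton_self i)) hi
  | hadd s t hs ht =>
    obtain ⟨S, hS⟩ := hs
    obtain ⟨T, hT⟩ := ht
    refine ⟨S ∪ T, fun S' hS' => ?_⟩
    conv_lhs => rw [hS S' (Finset.union_subset_left hS'), hT S' (Finset.union_subset_right hS')]
    simp only [mk, map_add, Pi.add_apply, Finset.sum_add_distrib]

theorem fam_injective {n : ℤ} : Function.Injective (fam (K := K) (L := L) (n := n)) := by
  classical
  intro s t h
  obtain ⟨S, hS⟩ := exists_eq_mk s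
  obtain ⟨T, hT⟩ := exists_eq_mk t
  rw [hS (S ∪ T) Finset.subset_union_left, hT (S ∪ T) Finset.subset_union_right, h]

/-- only finitely many components are non-zero -/
lemma exists_support {n : ℤ} (t : (HTor.tensorCx K L).X n) :
    ∃ S : Finset ℤ, ∀ p q, p ∉ S → fam t p q = 0 := by
  obtain ⟨S, hS⟩ := exists_eq_mk t
  refine ⟨S, fun p q hp => ?_⟩
  rw [hS S (Finset.Subset.refl S), fam_mk_of_notMem _ hp]

theorem ext_fam {n : ℤ} {s t : (HTor.tensorCx K L).X n} (h : ∀ p q, p + q = n → fam s p q = fam t p q) :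
    s = t := by
  apply fam_injective
  funext p q
  by_cases hpq : p + q = n
  · exact h p q hpq
  · rw [fam_eq_zero _ hpq, fam_eq_zero _ hpq]

end Groth.Agent.Htor.H241.TElt
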